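import Groth.Prelude.Def_CohCmp
import Groth.Agent.HigherDirect.ModCmp
import Groth.Agent.QCohLib.Basic

/-!
# The comparison map into higher direct images is locally surjective
-/

set_option autoImplicit false
set_option backward.isDefEq.respectTransparency false
universe u

open CategoryTheory CategoryTheory.Limits AlgebraicGeometry AlgebraicGeometry.Scheme.Modules Opposite TopologicalSpace

namespace Groth.Agent.SectCmpLoc

variable {X Y : Scheme.{u}}

theorem shortExact_toAbOn (U : X.Opens) {S : ShortComplex X.Modules} (hS : S.ShortExact) :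
    (S.map (CohCmp.toAbOn X U)).ShortExact := by
  have h1 : (S.map (Scheme.Modules.restrictFunctor U.ι)).ShortExact :=
    hS.map_of_exact (Scheme.Modules.restrictFunctor U.ι)
  exact h1.map_of_exact (CohVanish.toAbF (U : Scheme.{u}))

theorem exists_local_lift {M N : Y.Modules} (φ : M ⟶ N) [Epi φ] (V : Y.Opens) (t : Γ(N, V)) (y : Y)
    (hy : y ∈ V) :
    ∃ (W : Y.Opens) (h : W ≤ V), y ∈ W ∧ ∃ s : Γ(M, W), φ.app W s = N.presheaf.map (homOfLE h).op t := by
  obtain ⟨W, h, hs, hW⟩ := (QCohLib.epi_iff_locally_surjective φ).1 ‹_› V t y hy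
  exact ⟨W, h, hW, hs⟩

/-- The embedding of a module in an injective one. -/
noncomputable def embSeq [EnoughInjectives X.Modules] (F : X.Modules) : ShortComplex X.Modules :=
  ShortComplex.mk (Injective.ι F) (cokernel.π (Injective.ι F)) (cokernel.condition _)

theorem embSeq_shortExact [EnoughInjectives X.Modules] (F : X.Modules) : (embSeq F).ShortExact where
  exact := ShortComplex.exact_of_g_is_cokernel _ (cokernelIsCokernel (Injective.ι F))
  mono_f := inferInstanceAs (Mono (Injective.ι F))
  epi_g := inferInstanceAs (Epi (cokernel.π (Injective.ι F)))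

variable {f : X ⟶ Y} [HasInjectiveResolutions X.Modules] {Δ : RDer.DerivedLES (pushforward f)}

theorem epi_delta (S : ShortComplex X.Modules) (hS : S.ShortExact) [Injective S.X₂] (p : ℕ) :
    Epi (Δ.δ S hS p (p + 1) rfl) := by
  refine (Δ.exact₁ S hS p (p + 1) rfl).epi_f ?_
  exact ((pushforward f).isZero_rightDerived_obj_injective_succ p S.X₂).eq_of_tgt _ _

theorem locally_surjective (E : CohCmp.SectCmp f Δ) (p : ℕ) : ∀ (F : X.Modules)
    (V : Y.Opens) (t : ((Coh.Rpush f p).obj F).presheaf.obj (op V)) (y : Y) (_ : y ∈ V),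
    ∃ (W : Y.Opens) (hWV : W ≤ V), y ∈ W ∧
      ∃ x : Coh.HHon X F (f ⁻¹ᵁ W) p,
        E.ε W F p x = ((Coh.Rpush f p).obj F).presheaf.map (homOfLE hWV).op t := by
  induction p with
  | zero =>
    intro F V t y hy
    haveI := HigherDirect.preservesFiniteLimits_pushforward f
    obtain ⟨W, hWV, hyW, s, hs⟩ := exists_local_lift ((pushforward f).toRightDerivedZero.app F) V t y hy
    exact ⟨W, hWV, hyW, CohPull.sectH0 F (f ⁻¹ᵁ W) s, (E.zero W F s).trans hs⟩
  | succ p ih =>
    intro F V t y hy
    haveI : EnoughInjectives X.Modules := HigherDirect.enoughInjectives_modules X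
    have hS := embSeq_shortExact F
    haveI : Injective (embSeq F).X₂ := inferInstanceAs (Injective (Injective.under F))
    haveI := epi_delta (Δ := Δ) (embSeq F) hS p
    obtain ⟨W, hWV, hyW, s, hs⟩ := exists_local_lift (Δ.δ (embSeq F) hS p (p + 1) rfl) V t y hy
    obtain ⟨W', hW', hyW', x, hx⟩ := ih (embSeq F).X₃ W s y hyW
    refine ⟨W', hW'.trans hWV, hyW', CohCmp.extδ (shortExact_toAbOn (f ⁻¹ᵁ W') hS) p x, ?_⟩
    refine (E.delta W' (embSeq F) hS (shortExact_toAbOn (f ⁻¹ᵁ W') hS) p x).trans ?_
    rw [hx]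
    have hn := ConcreteCategory.congr_hom ((Δ.δ (embSeq F) hS p (p + 1) rfl).mapPresheaf.naturality (homOfLE hW').op) s
    refine hn.trans ?_
    refine (congrArg (fun z => ((Coh.Rpush f (p + 1)).obj F).presheaf.map (homOfLE hW').op z) hs).trans ?_
    exact (ConcreteCategory.congr_hom (((Coh.Rpush f (p + 1)).obj F).presheaf.map_comp (homOfLE hWV).op (homOfLE hW').op) t).symm

end Groth.Agent.SectCmpLoc
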